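import Mathlib

set_option linter.unusedSectionVars false
set_option linter.unusedVariables false
set_option linter.unusedSimpArgs false
set_option autoImplicit false
set_option linter.style.haveILetI false
set_option maxHeartbeats 400000

/-!
# Modules over a simple finite-dimensional algebra are classified by dimension
-/

namespace Groth.Agent.Lib.Helper6.CycMod

variable {k : Type*} [Field k] {R : Type*} [Ring R] [Algebra k R] [FiniteDimensional k R]
  {M : Type*} [AddCommGroup M] [Module k M] [Module R M] [IsScalarTower k R M]
  [FiniteDimensional k M]

/-- Over a simple finite-dimensional `k`-algebra `R`, a module of the same `k`-dimension as `R`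
is free of rank one. -/
theorem nonempty_linearEquiv_of_isSimpleRing [IsSimpleRing R]
    (h : Module.finrank k M = Module.finrank k R) : Nonempty (R ≃ₗ[R] M) := by
  haveI : IsArtinianRing R := IsArtinianRing.of_finite k R
  haveI : IsSemisimpleRing R := inferInstance
  haveI : Module.Finite R M := Module.Finite.of_restrictScalars_finite k R M
  have hRpos : 0 < Module.finrank k R := Module.finrank_pos
  haveI : Nontrivial M := by
    by_contra hM
    rw [not_nontrivial_iff_subsingleton] at hM
    have : Module.finrank k M = 0 := Module.finrank_zero_of_subsingleton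
    omega
  have hR := IsSimpleRing.isIsotypic R R
  have hM := IsSimpleRing.isIsotypic R M
  obtain ⟨n, _, S, hS, ⟨eR⟩⟩ := hR.linearEquiv_fun
  obtain ⟨m, _, S', hS', ⟨eM⟩⟩ := hM.linearEquiv_fun
  obtain ⟨I', ⟨e'⟩⟩ := IsSemisimpleRing.exists_linearEquiv_ideal_of_isSimpleModule R S'
  haveI : IsSimpleModule R I' := IsSimpleModule.congr e'.symm
  obtain ⟨e''⟩ := hR S I'
  let eS : S' ≃ₗ[R] S := e'.trans e''
  haveI : Module.Finite k S' :=
    Module.Finite.of_injective (S'.subtype.restrictScalars k) S'.subtype_injective
  haveI : Module.Finite k S :=
    Module.Finite.of_injective (S.subtype.restrictScalars k) S.subtype_injective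
  -- dimensions
  have h1 : Module.finrank k R = n * Module.finrank k S := by
    rw [LinearEquiv.finrank_eq (eR.restrictScalars k), Module.finrank_pi_fintype]
    simp
  have h2 : Module.finrank k M = m * Module.finrank k S := by
    rw [LinearEquiv.finrank_eq (eM.restrictScalars k), Module.finrank_pi_fintype]
    simp [LinearEquiv.finrank_eq (eS.restrictScalars k)]
  have hSpos : 0 < Module.finrank k S := by
    haveI : Nontrivial S := IsSimpleModule.nontrivial R S
    exact Module.finrank_pos
  have hnm : n = m := by
    have : n * Module.finrank k S = m * Module.finrank k S := by rw [← h1, ← h2, h]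
    exact Nat.eq_of_mul_eq_mul_right hSpos this
  subst hnm
  exact ⟨eR.trans ((LinearEquiv.piCongrRight fun _ => eS.symm).trans eM.symm)⟩

end Groth.Agent.Lib.Helper6.CycMod
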