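import Mathlib
import Groth.Agent.Lib.Helper6.CycMod.Simple

set_option linter.unusedSectionVars false
set_option linter.unusedVariables false
set_option linter.unusedSimpArgs false
set_option autoImplicit false
set_option linter.style.haveILetI false
set_option maxHeartbeats 400000

/-!
# A module over a finite-dimensional algebra with the "right dimensions" is cyclic
-/

namespace Groth.Agent.Lib.Helper6.CycMod

open Submodule

section General

variable {A : Type*} [Ring A] {W : Type*} [AddCommGroup W] [Module A W]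

/-- Nakayama for nilpotent ideals, iterative form. -/
theorem sup_pow_smul_top (N : Submodule A W) (I : Ideal A) (h : N ⊔ I • (⊤ : Submodule A W) = ⊤)
    (m : ℕ) : N ⊔ (I ^ m) • (⊤ : Submodule A W) = ⊤ := by
  induction m with
  | zero =>
    rw [Submodule.pow_zero, Ideal.one_eq_top, Submodule.top_smul, sup_top_eq]
  | succ m ih =>
    rw [eq_top_iff]
    calc (⊤ : Submodule A W) = N ⊔ (I ^ m) • (⊤ : Submodule A W) := ih.symm
      _ = N ⊔ (I ^ m) • (N ⊔ I • (⊤ : Submodule A W)) := by rw [h]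
      _ = N ⊔ ((I ^ m) • N ⊔ (I ^ m) • (I • (⊤ : Submodule A W))) := by rw [Submodule.smul_sup]
      _ ≤ N ⊔ (I ^ (m + 1)) • (⊤ : Submodule A W) := by
        refine sup_le le_sup_left (sup_le ?_ ?_)
        · exact le_trans Submodule.smul_le_right le_sup_left
        · rw [← Submodule.mul_smul, ← Submodule.pow_succ]
          exact le_sup_right

/-- Two-sided complements in a semisimple ring. -/
theorem exists_twoSided_compl (R : Type*) [Ring R] [IsSemisimpleRing R]
    (I : Ideal R) (hI : I.IsTwoSided) :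
    ∃ I' : Ideal R, I'.IsTwoSided ∧ I ⊓ I' = ⊥ ∧ I ⊔ I' = ⊤ := by
  let iso := OrderIso.setIsotypicComponents (R := R) (M := R)
  let m : fullyInvariantSubmodule R R := ⟨I, isFullyInvariant_iff_isTwoSided.mpr hI⟩
  let s := iso.symm m
  let m' := iso sᶜ
  have hm : iso s = m := iso.apply_symm_apply m
  have h1 : m ⊓ m' = ⊥ := by
    rw [← hm, ← iso.map_inf, inf_compl_eq_bot, iso.map_bot]
  have h2 : m ⊔ m' = ⊤ := by
    rw [← hm, ← iso.map_sup, sup_compl_eq_top, iso.map_top]
  refine ⟨m'.1, isFullyInvariant_iff_isTwoSided.mp m'.2, ?_, ?_⟩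
  · have := congrArg (fun x : fullyInvariantSubmodule R R => (x : Submodule R R)) h1
    simp only [Sublattice.coe_inf, CompleteSublattice.coe_bot] at this
    exact this
  · have := congrArg (fun x : fullyInvariantSubmodule R R => (x : Submodule R R)) h2
    simp only [Sublattice.coe_sup, CompleteSublattice.coe_top] at this
    exact this

/-- The combination step. -/
theorem combine_mem (I₀ I₁ I₂ : Ideal A) [I₁.IsTwoSided] [I₂.IsTwoSided] (h12 : I₁ ⊓ I₂ ≤ I₀)
    (e₁ e₂ : A) (he₁ : e₁ ∈ I₁) (he₂ : e₂ ∈ I₂) (he : e₁ + e₂ = 1) (w₁ w₂ x : W)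
    (hx : x ∈ Submodule.span A {w₁} ⊔ I₁ • (⊤ : Submodule A W)) :
    e₂ • x ∈ Submodule.span A {e₂ • w₁ + e₁ • w₂} ⊔ I₀ • (⊤ : Submodule A W) := by
  set T := Submodule.span A {e₂ • w₁ + e₁ • w₂} ⊔ I₀ • (⊤ : Submodule A W) with hT
  have c0 : ∀ a ∈ I₂, ∀ b ∈ I₁, ∀ y : W, (a * b) • y ∈ T := by
    intro a ha b hb y
    refine Submodule.mem_sup_right (Submodule.smul_mem_smul (h12 ⟨?_, ?_⟩) Submodule.mem_top)
    · exact Ideal.mul_mem_left _ _ hb
    · exact Ideal.mul_mem_right _ _ ha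
  have c0' : ∀ a ∈ I₁, ∀ b ∈ I₂, ∀ y : W, (a * b) • y ∈ T := by
    intro a ha b hb y
    refine Submodule.mem_sup_right (Submodule.smul_mem_smul (h12 ⟨?_, ?_⟩) Submodule.mem_top)
    · exact Ideal.mul_mem_right _ _ ha
    · exact Ideal.mul_mem_left _ _ hb
  obtain ⟨u, hu, y, hy, rfl⟩ := Submodule.mem_sup.1 hx
  obtain ⟨a, rfl⟩ := Submodule.mem_span_singleton.1 hu
  rw [smul_add]
  refine T.add_mem ?_ ?_
  · -- e₂ • a • w₁
    have hw : (e₂ * a) • (e₂ • w₁ + e₁ • w₂) ∈ T :=
      Submodule.mem_sup_left (Submodule.smul_mem _ _ (Submodule.mem_span_singleton_self _))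
    have h1 : ((e₂ * a) * e₁) • w₂ ∈ T := c0 _ (Ideal.mul_mem_right _ _ he₂) _ he₁ _
    have h2 : ((e₂ * a) * e₁) • w₁ ∈ T := c0 _ (Ideal.mul_mem_right _ _ he₂) _ he₁ _
    have : e₂ • a • w₁ = (e₂ * a) • (e₂ • w₁ + e₁ • w₂) - ((e₂ * a) * e₁) • w₂
        + ((e₂ * a) * e₁) • w₁ := by
      have : e₂ • a • w₁ = ((e₂ * a) * (e₁ + e₂)) • w₁ := by rw [he, mul_one, mul_smul]
      rw [this, smul_add, mul_add, add_smul, mul_smul (e₂ * a) e₂, mul_smul (e₂ * a) e₁ w₂,
        mul_smul (e₂ * a) e₁ w₁]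
      abel
    rw [this]
    exact T.add_mem (T.sub_mem hw h1) h2
  · -- e₂ • y with y ∈ I₁ • ⊤
    refine Submodule.smul_induction_on hy ?_ ?_
    · intro b hb z _
      rw [← mul_smul]
      exact c0 _ he₂ _ hb _
    · intro y z hy hz
      rw [smul_add]
      exact T.add_mem hy hz

end General

section Alg

variable {k : Type*} [Field k] {A : Type*} [Ring A] [Algebra k A] [FiniteDimensional k A]
  {W : Type*} [AddCommGroup W] [Module k W] [Module A W] [IsScalarTower k A W]
  [FiniteDimensional k W]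

instance quotient_finite (I : Ideal A) [I.IsTwoSided] : FiniteDimensional k (A ⧸ I) :=
  Module.Finite.of_surjective (Ideal.Quotient.mkₐ k I).toLinearMap
    (Ideal.Quotient.mkₐ_surjective k I)

instance quotient_smul_finite (I : Ideal A) :
    FiniteDimensional k (W ⧸ (I • ⊤ : Submodule A W)) :=
  Module.Finite.of_surjective ((Submodule.mkQ (I • ⊤ : Submodule A W)).restrictScalars k)
    (fun x => by
      obtain ⟨y, rfl⟩ := Submodule.mkQ_surjective (I • ⊤ : Submodule A W) x
      exact ⟨y, rfl⟩)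

instance quotient_isScalarTower (I : Ideal A) [I.IsTwoSided] :
    IsScalarTower k (A ⧸ I) (W ⧸ (I • ⊤ : Submodule A W)) := by
  apply IsScalarTower.of_algebraMap_smul
  intro c w
  obtain ⟨w, rfl⟩ := Submodule.Quotient.mk_surjective _ w
  have h1 : algebraMap k (A ⧸ I) c = Ideal.Quotient.mk I (algebraMap k A c) := rfl
  rw [h1, Module.Quotient.mk_smul_mk, algebraMap_smul]
  rfl

/-- Base case: the quotient ring is simple. -/
theorem exists_generator_of_simple (I₀ : Ideal A) [I₀.IsTwoSided] [IsSimpleRing (A ⧸ I₀)]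
    (h : Module.finrank k (W ⧸ (I₀ • ⊤ : Submodule A W)) = Module.finrank k (A ⧸ I₀)) :
    ∃ w : W, Submodule.span A {w} ⊔ I₀ • (⊤ : Submodule A W) = ⊤ := by
  obtain ⟨e⟩ := nonempty_linearEquiv_of_isSimpleRing (k := k) (R := A ⧸ I₀)
    (M := W ⧸ (I₀ • ⊤ : Submodule A W)) h
  obtain ⟨w, hw⟩ := Submodule.Quotient.mk_surjective _ (e 1)
  refine ⟨w, ?_⟩
  rw [eq_top_iff]
  intro x _
  obtain ⟨a, ha⟩ := Ideal.Quotient.mk_surjective (e.symm (Submodule.Quotient.mk x))
  have h1 : (Submodule.Quotient.mk x : W ⧸ (I₀ • ⊤ : Submodule A W))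
      = Submodule.Quotient.mk (a • w) := by
    rw [← Module.Quotient.mk_smul_mk, hw, ← map_smul, smul_eq_mul, mul_one, ha,
      LinearEquiv.apply_symm_apply]
  have h2 : x - a • w ∈ (I₀ • ⊤ : Submodule A W) := by
    rw [← Submodule.Quotient.eq]
    exact h1
  have : x = a • w + (x - a • w) := by abel
  rw [this]
  exact Submodule.add_mem _
    (Submodule.mem_sup_left (Submodule.smul_mem _ _ (Submodule.mem_span_singleton_self _)))
    (Submodule.mem_sup_right h2)

/-- Main induction. -/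
theorem exists_generator_mod
    (hdim : ∀ (I : Ideal A) [I.IsTwoSided], IsSimpleRing (A ⧸ I) →
      Module.finrank k (W ⧸ (I • ⊤ : Submodule A W)) = Module.finrank k (A ⧸ I))
    (I₀ : Ideal A) (h₀ : I₀.IsTwoSided) :
    ∃ w : W, Submodule.span A {w} ⊔ I₀ • (⊤ : Submodule A W) = ⊤ := by
  haveI : IsNoetherian A A := isNoetherian_of_tower k (inferInstance : IsNoetherian k A)
  induction I₀ using WellFoundedGT.induction with
  | ind I₀ ih =>
  haveI := h₀
  by_cases htop : I₀ = ⊤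
  · refine ⟨0, ?_⟩
    rw [htop, Submodule.top_smul, sup_top_eq]
  haveI : Nontrivial (A ⧸ I₀) := Ideal.Quotient.nontrivial_iff.mpr htop
  haveI : IsArtinianRing (A ⧸ I₀) := IsArtinianRing.of_finite k (A ⧸ I₀)
  have hker : ∀ x : A, Ideal.Quotient.mk I₀ x = 0 ↔ x ∈ I₀ := fun x =>
    Ideal.Quotient.eq_zero_iff_mem
  -- comap facts
  have hlt : ∀ J : Ideal (A ⧸ I₀), J ≠ ⊥ → I₀ < J.comap (Ideal.Quotient.mk I₀) := by
    intro J hJ
    refine lt_of_le_of_ne ?_ ?_
    · intro x hx
      rw [Ideal.mem_comap, (hker x).2 hx]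
      exact J.zero_mem
    · intro heq
      apply hJ
      rw [eq_bot_iff]
      intro y hy
      obtain ⟨x, rfl⟩ := Ideal.Quotient.mk_surjective y
      have : x ∈ J.comap (Ideal.Quotient.mk I₀) := hy
      rw [← heq] at this
      rw [Ideal.mem_bot, (hker x).2 this]
  by_cases hJ : Ring.jacobson (A ⧸ I₀) = ⊥
  · haveI : IsSemisimpleRing (A ⧸ I₀) := IsArtinianRing.isSemisimpleRing_iff_jacobson.mpr hJ
    by_cases hs : IsSimpleRing (A ⧸ I₀)
    · exact exists_generator_of_simple I₀ (hdim I₀ hs)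
    · rw [isSimpleRing_iff_isTwoSided_imp] at hs
      push Not at hs
      obtain ⟨Ibar, hIts, hIbot, hItop⟩ := hs ‹_›
      obtain ⟨Ibar', hI'ts, hinf, hsup⟩ := exists_twoSided_compl (A ⧸ I₀) Ibar hIts
      have hI'bot : Ibar' ≠ ⊥ := by
        intro h
        rw [h, sup_bot_eq] at hsup
        exact hItop hsup
      haveI := hIts
      haveI := hI'ts
      set I₁ := Ibar.comap (Ideal.Quotient.mk I₀) with hI₁
      set I₂ := Ibar'.comap (Ideal.Quotient.mk I₀) with hI₂
      haveI : I₁.IsTwoSided := inferInstance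
      haveI : I₂.IsTwoSided := inferInstance
      obtain ⟨w₁, hw₁⟩ := ih I₁ (hlt Ibar hIbot) inferInstance
      obtain ⟨w₂, hw₂⟩ := ih I₂ (hlt Ibar' hI'bot) inferInstance
      have h12 : I₁ ⊓ I₂ ≤ I₀ := by
        intro x hx
        have : Ideal.Quotient.mk I₀ x ∈ Ibar ⊓ Ibar' := ⟨hx.1, hx.2⟩
        rw [hinf, Ideal.mem_bot] at this
        exact (hker x).1 this
      have h21 : I₂ ⊓ I₁ ≤ I₀ := by rw [inf_comm]; exact h12
      have h1mem : (1 : A ⧸ I₀) ∈ Ibar ⊔ Ibar' := by rw [hsup]; exact Submodule.mem_top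
      obtain ⟨eb₁, heb₁, eb₂, heb₂, hsum⟩ := Submodule.mem_sup.1 h1mem
      obtain ⟨e₁, rfl⟩ := Ideal.Quotient.mk_surjective eb₁
      have he₁ : e₁ ∈ I₁ := heb₁
      have he₂ : (1 - e₁) ∈ I₂ := by
        show Ideal.Quotient.mk I₀ (1 - e₁) ∈ Ibar'
        rw [map_sub, map_one, ← hsum, add_sub_cancel_left]
        exact heb₂
      have hee : e₁ + (1 - e₁) = 1 := by abel
      have hee' : (1 - e₁) + e₁ = 1 := by abel
      refine ⟨(1 - e₁) • w₁ + e₁ • w₂, ?_⟩
      rw [eq_top_iff]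
      intro x _
      have hx₁ : x ∈ Submodule.span A {w₁} ⊔ I₁ • (⊤ : Submodule A W) := by
        rw [hw₁]; exact Submodule.mem_top
      have hx₂ : x ∈ Submodule.span A {w₂} ⊔ I₂ • (⊤ : Submodule A W) := by
        rw [hw₂]; exact Submodule.mem_top
      have m1 := combine_mem I₀ I₁ I₂ h12 e₁ (1 - e₁) he₁ he₂ hee w₁ w₂ x hx₁
      have m2 := combine_mem I₀ I₂ I₁ h21 (1 - e₁) e₁ he₂ he₁ hee' w₂ w₁ x hx₂
      rw [add_comm (e₁ • w₂)] at m2
      have : x = e₁ • x + (1 - e₁) • x := by rw [← add_smul, hee, one_smul]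
      rw [this]
      exact Submodule.add_mem _ m2 m1
  · -- nilpotent case
    set I := (Ring.jacobson (A ⧸ I₀)).comap (Ideal.Quotient.mk I₀) with hI
    haveI : I.IsTwoSided := inferInstance
    obtain ⟨w, hw⟩ := ih I (hlt _ hJ) inferInstance
    obtain ⟨n, hn⟩ := (IsSemiprimaryRing.isNilpotent (R := A ⧸ I₀))
    have hpow : ∀ m : ℕ, I ^ m ≤ (Ring.jacobson (A ⧸ I₀) ^ m).comap (Ideal.Quotient.mk I₀) := by
      intro m
      induction m with
      | zero =>
        rw [Submodule.pow_zero, Submodule.pow_zero, Ideal.one_eq_top, Ideal.one_eq_top,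
          Ideal.comap_top]
      | succ m ihm =>
        rw [Submodule.pow_succ, Submodule.pow_succ, Ideal.mul_le]
        intro a ha b hb
        rw [Ideal.mem_comap, map_mul]
        exact Ideal.mul_mem_mul (ihm ha) hb
    have hle : I ^ n ≤ I₀ := by
      intro x hx
      have := hpow n hx
      rw [hn] at this
      exact (hker x).1 this
    refine ⟨w, ?_⟩
    have h3 := sup_pow_smul_top _ I hw n
    rw [eq_top_iff]
    calc (⊤ : Submodule A W) = Submodule.span A {w} ⊔ (I ^ n) • (⊤ : Submodule A W) := h3.symm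
      _ ≤ _ := sup_le_sup_left (Submodule.smul_mono_left (N := (⊤ : Submodule A W)) hle) _

/-- A module over a finite-dimensional algebra `A` whose quotients by maximal two-sided ideals
have the same dimensions as those of `A` is cyclic. -/
theorem exists_generator
    (hdim : ∀ (I : Ideal A) [I.IsTwoSided], IsSimpleRing (A ⧸ I) →
      Module.finrank k (W ⧸ (I • ⊤ : Submodule A W)) = Module.finrank k (A ⧸ I)) :
    ∃ w : W, Submodule.span A {w} = ⊤ := by
  obtain ⟨w, hw⟩ := exists_generator_mod (k := k) hdim ⊥ inferInstance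
  refine ⟨w, ?_⟩
  rwa [Submodule.bot_smul, sup_bot_eq] at hw

end Alg

end Groth.Agent.Lib.Helper6.CycMod
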